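import Cfsg.Agent.H853.RB.Rules

/-!
# S3509: a member whose centralizer normalises a `p`-group with centralizer `⟨x i⟩` (helper604)

`QFrame p s` : there is a `p`-subgroup `Q` containing `s` in its center, normalised by `C(s)`, with `C(Q) ≤ ⟨s⟩`.
`not_qframe` : no minimal commuting cover has a member `x i` of order `p` with `QFrame p (x i)`.
-/

set_option autoImplicit false

namespace Cfsg.Agent.H604.RB.QFrame

open Cfsg Cfsg.Agent.H106.RC Cfsg.Agent.H867.RC
open MulAction Subgroup

/-- `C(s)` normalises a `p`-group with center and centralizer `⟨s⟩` -/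
def QFrame {L : Type*} [Group L] (p : ℕ) (s : L) : Prop :=
  ∃ Q : Subgroup L, Finite Q ∧ IsPGroup p Q ∧ (∀ c : L, c * s = s * c → c ∈ normalizer (Q : Set L)) ∧
    (∀ u ∈ Q, u * s = s * u) ∧ ∀ c : L, (∀ u ∈ Q, u * c = c * u) → c ∈ zpowers s

theorem QFrame.map {L L' : Type*} [Group L] [Group L'] {p : ℕ} {s : L} (h : QFrame p s) (φ : L ≃* L') : QFrame p (φ s) := by
  obtain ⟨Q, hf, hp, hn, hc, hz⟩ := h
  refine ⟨Q.map φ.toMonoidHom, ?_, hp.map _, ?_, ?_, ?_⟩
  · exact Finite.of_equiv _ (Q.equivMapOfInjective _ φ.injective).toEquiv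
  · intro c hcs
    have h1 : φ.symm c * s = s * φ.symm c := by
      apply φ.injective
      rw [map_mul, map_mul, φ.apply_symm_apply, hcs]
    have h2 := hn _ h1
    rw [Subgroup.mem_normalizer_iff] at h2 ⊢
    intro u
    constructor
    · rintro ⟨v, hv, rfl⟩
      exact ⟨_, (h2 v).1 hv, by simp⟩
    · rintro ⟨v, hv, hvu⟩
      have h3 : v = φ.symm c * φ.symm u * (φ.symm c)⁻¹ := by
        apply φ.injective
        have hvu' : φ v = c * u * c⁻¹ := hvu
        simp only [map_mul, map_inv, φ.apply_symm_apply]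
        exact hvu'
      rw [h3] at hv
      exact ⟨_, (h2 _).2 hv, by simp⟩
  · rintro _ ⟨u, hu, rfl⟩
    show φ u * φ s = φ s * φ u
    rw [← map_mul, hc u hu, map_mul]
  · intro c h
    have h1 := hz (φ.symm c) (fun u hu => by
      have h2 : φ u * c = c * φ u := h (φ u) ⟨u, hu, rfl⟩
      apply φ.injective
      rw [map_mul, map_mul, φ.apply_symm_apply, h2])
    obtain ⟨k, hk⟩ := mem_zpowers_iff.1 h1
    rw [mem_zpowers_iff]
    refine ⟨k, ?_⟩
    rw [← map_zpow, hk, φ.apply_symm_apply]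

variable {L Ω ι : Type*} [Group L] [MulAction L Ω] {N : Subgroup L}

/-- **no member of a minimal cover has a `QFrame`** -/
theorem not_qframe [Finite ι] [Nonempty Ω] (hE : Env L Ω N) {x : ι → L} {r : ι → ℕ} (hx : PF x r) (hc : Cov Ω x)
    (hm : CovMin Ω x) {i : ι} (h : QFrame (r i) (x i)) : False := by
  obtain ⟨Q, hf, hp, hn, hcQ, hz⟩ := h
  have ho : ∀ j, orderOf (x j) = r j := by
    intro j
    have : Fact (r j).Prime := ⟨hx.prime j⟩
    exact orderOf_eq_prime (hx.pow j) (hx.ne j)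
  have hall := Cfsg.Agent.H853.RB.ruleA_min hx hc hm (hx.prime i) Q hp (fun j => hn _ (hx.comm j i)) rfl hcQ (by
    intro c hcQ' hcc hcp hc1
    have h1 := hz c hcc
    -- `c ∈ ⟨x i⟩`, `c ≠ 1`
    have hfin : Finite ↥(zpowers (x i)) :=
      Nat.finite_of_card_ne_zero (by rw [Nat.card_zpowers, ho i]; exact (hx.prime i).ne_zero)
    have h2 : zpowers c = zpowers (x i) := by
      apply Subgroup.eq_of_le_of_card_ge
      · rwa [zpowers_le]
      · have hpr : Fact (r i).Prime := ⟨hx.prime i⟩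
        rw [Nat.card_zpowers, Nat.card_zpowers, ho i, orderOf_eq_prime hcp hc1]
    rw [h2]
    exact mem_zpowers _)
  have heq : ∀ j, j = i := by
    intro j
    have h1 := hz (x j) (hall j)
    have h2 : r j ∣ r i := by
      rw [← ho j, ← ho i]
      exact orderOf_dvd_of_mem_zpowers h1
    exact hx.inj ((Nat.prime_dvd_prime_iff_eq (hx.prime j) (hx.prime i)).1 h2)
  apply hx.ne i
  apply hE.single
  intro ω
  obtain ⟨j, hj⟩ := hc ω
  rwa [heq j] at hj

end Cfsg.Agent.H604.RB.QFrame
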