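import Cfsg.Agent.H186.U33.XAbs
import Cfsg.Agent.H863.U33.Inst
import Cfsg.Agent.H264.U33.StO
import Cfsg.Agent.H604.U33.CentP
import Cfsg.Agent.H604.RB.QFrame

/-!
# S3509, row of the Baby Monster: no member of class 3B (helper604)

* `qframe_y` : the 3B-element `y₁` of the model: `C(y₁)` normalises `P = 3^(1+8)`, `C(P) = ⟨y₁⟩`;
* `qframe_three` : the same for every element of order three of a group `L` of type `B` with `7 ∤ |C(s)|`;
* `not_threeB` : no member `x i` of a minimal commuting cover with `r i = 3`, `7 ∤ |C(x i)|`.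
-/

set_option autoImplicit false

namespace Cfsg.Agent.H604.RB.ThreeB

open Cfsg Cfsg.Agent.H106.RC Cfsg.Agent.H604.RB.QFrame Cfsg.Agent.H863.U33
open Cfsg.Agent.H819.U33 (g)
open Subgroup

theorem stNF : StNF := Cfsg.Agent.H649.U33.stNF

theorem stAct : StAct := Cfsg.Agent.H649.U33.stAct

theorem stO : StO := Cfsg.Agent.H264.U33.O.stO stNF

/-- the model group is of type `B` -/
theorem isoG : Spor.IsoB Cfsg.Agent.H819.U33.G := ⟨BM.KHAll.iso.symm⟩

theorem finG : Finite Cfsg.Agent.H819.U33.G :=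
  Nat.finite_of_card_ne_zero (by rw [NotCT.Orders.b isoG]; norm_num)

theorem order_y : orderOf (g wy1) = 3 := by
  have h3 : Fact (Nat.Prime 3) := ⟨Nat.prime_three⟩
  exact orderOf_eq_prime tb.y3 tb.y1

theorem card_y_le : Nat.card ↥(centralizer ({g wy1} : Set Cfsg.Agent.H819.U33.G)) ≤ 65303470080 :=
  Cfsg.Agent.H186.U33.card_of_cube isoG order_y w9_cube

theorem card_y : Nat.card ↥(centralizer ({g wy1} : Set Cfsg.Agent.H819.U33.G)) = 65303470080 := by
  have := finG
  exact (Cfsg.Agent.H604.U33.StIm.stC' stNF stO tb card_y_le).2.1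

theorem qframe_y : QFrame 3 (g wy1) := by
  have := finG
  obtain ⟨-, -, hnorm, -, -⟩ := Cfsg.Agent.H604.U33.StIm.stC' stNF stO tb card_y_le
  refine ⟨PP (g wy1) eG, inferInstance, IsPGroup.of_card (n := 9) (stNF tb).2.2, ?_, ?_, ?_⟩
  · intro c hc
    have h1 : ∀ c : Cfsg.Agent.H819.U33.G, c * g wy1 = g wy1 * c → ∀ p ∈ PP (g wy1) eG, c⁻¹ * p * c ∈ PP (g wy1) eG := by
      intro c hc
      exact (hnorm c (Or.inl (by rw [mul_assoc, ← hc, inv_mul_cancel_left]))).1
    have hc' : c⁻¹ * g wy1 = g wy1 * c⁻¹ := (show Commute c (g wy1) from hc).inv_left.eq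
    rw [Subgroup.mem_normalizer_iff]
    intro p
    constructor
    · intro hp
      have := h1 c⁻¹ hc' p hp
      rwa [inv_inv] at this
    · intro hp
      have := h1 c hc _ hp
      have e1 : c⁻¹ * (c * p * c⁻¹) * c = p := by group
      rwa [e1] at this
  · intro u hu
    have h1 := Cfsg.Agent.H757.U33.KK_le_cent (k := kG) tb
      (Cfsg.Agent.H757.U33.OO_le_KK (Cfsg.Agent.H757.U33.UU_le_OO (Cfsg.Agent.H757.U33.PP_le_UU hu)))
    exact mem_centralizer_singleton_iff.1 h1
  · intro c hc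
    exact Cfsg.Agent.H604.U33.CentP.cent_PP stNF stAct stO tb card_y_le hc

/-- **`QFrame` for the elements of class 3B** -/
theorem qframe_three {L : Type} [Group L] (h : Spor.IsoB L) {s : L} (hs : orderOf s = 3)
    (h7 : ¬ 7 ∣ Nat.card ↥(centralizer ({s} : Set L))) : QFrame 3 s := by
  obtain ⟨e⟩ := h
  let φ : Cfsg.Agent.H819.U33.G ≃* L := BM.KHAll.iso.symm.trans e.symm
  have h1 : QFrame 3 (φ (g wy1)) := qframe_y.map φ
  have ho : orderOf (φ (g wy1)) = 3 := by rw [MulEquiv.orderOf_eq, order_y]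
  have hc : Nat.card ↥(centralizer ({φ (g wy1)} : Set L)) = 65303470080 := by
    rw [← card_y]
    refine (Nat.card_congr ?_).symm
    refine (Subgroup.equivMapOfInjective (centralizer ({g wy1} : Set Cfsg.Agent.H819.U33.G)) φ.toMonoidHom
      φ.injective).toEquiv.trans (Equiv.setCongr ?_)
    ext c
    constructor
    · rintro ⟨d, hd, rfl⟩
      have h2 := mem_centralizer_singleton_iff.1 hd
      show φ d ∈ centralizer ({φ (g wy1)} : Set L)
      rw [mem_centralizer_singleton_iff, ← map_mul, h2, map_mul]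
    · intro hc
      have h2 := mem_centralizer_singleton_iff.1 (show c ∈ centralizer ({φ (g wy1)} : Set L) from hc)
      refine ⟨φ.symm c, ?_, φ.apply_symm_apply c⟩
      show φ.symm c ∈ centralizer ({g wy1} : Set Cfsg.Agent.H819.U33.G)
      rw [mem_centralizer_singleton_iff]
      apply φ.injective
      rw [map_mul, map_mul, φ.apply_symm_apply, h2]
  have h7' : ¬ 7 ∣ Nat.card ↥(centralizer ({φ (g wy1)} : Set L)) := by rw [hc]; norm_num
  obtain ⟨c, hc'⟩ := isConj_iff.1 (Cfsg.Agent.H573.U33.Conj.conj_three ⟨e⟩ ho hs h7' h7)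
  have h2 := h1.map (MulAut.conj c)
  rw [MulAut.conj_apply, hc'] at h2
  exact h2

/-- **3B** -/
theorem not_threeB {L : Type} [Group L] (h : Spor.IsoB L) {Ω : Type} [Nonempty Ω] [MulAction L Ω] {N : Subgroup L}
    (hE : Env L Ω N) {ι : Type} [Finite ι] {x : ι → L} {r : ι → ℕ} (hx : PF x r) (hc : Cov Ω x) (hm : CovMin Ω x)
    {i : ι} (hi : r i = 3) (h7 : ¬ 7 ∣ Nat.card ↥(centralizer ({x i} : Set L))) : False := by
  have ho : orderOf (x i) = 3 := by
    have h3 : Fact (Nat.Prime 3) := ⟨Nat.prime_three⟩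
    exact orderOf_eq_prime (by rw [← hi]; exact hx.pow i) (hx.ne i)
  have h1 : QFrame (r i) (x i) := by rw [hi]; exact qframe_three h ho h7
  exact not_qframe hE hx hc hm h1

end Cfsg.Agent.H604.RB.ThreeB
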