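import Cfsg.Agent.H604.RB.ThreeA
import Cfsg.Agent.H604.RB.ThreeB
import Cfsg.Agent.H979.U33.Seven
import Cfsg.Agent.H995.U33.Pair

/-!
# S3509, row of the Baby Monster: the members of order three (helper604)

* `card_ge_of_seven` : `s` of order three with `7 ∣ |C(s)|` : `|C(s)| ≥ 129123503308800`;
* `frame_of_seven` : such an element has a `FiFrame` (class 3A);
* `not_three` : no minimal commuting cover has a member of order three, given the base rule.
-/

set_option autoImplicit false

namespace Cfsg.Agent.H604.RB.Three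

open Cfsg Cfsg.Agent.H106.RC Cfsg.Agent.H873.RG Cfsg.Agent.H480.Ore
open Cfsg.Agent.H819.U33 (g G XX wf wd1 wd2)
open Subgroup

theorem card_f_ge : 129123503308800 ≤ Nat.card ↥(centralizer ({g wf} : Set G)) := by
  have := Cfsg.Agent.H604.RB.ThreeB.finG
  rw [← Cfsg.Agent.H819.U33.card_XX]
  apply card_le_of_le
  intro x hx
  have h1 := mem_centralizer_iff.1 (show x ∈ centralizer ({g wd1, g wd2} : Set G) from hx)
  have a1 : g wd1 * x = x * g wd1 := h1 _ (by simp)
  have a2 : g wd2 * x = x * g wd2 := h1 _ (by simp)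
  rw [mem_centralizer_singleton_iff, ← Cfsg.Agent.H819.U33.d1_mul_d2, ← mul_assoc, ← a1, mul_assoc, ← a2, mul_assoc]

theorem card_ge_of_seven {L : Type} [Group L] (h : Spor.IsoB L) {s : L} (hs : orderOf s = 3)
    (h7 : 7 ∣ Nat.card ↥(centralizer ({s} : Set L))) : 129123503308800 ≤ Nat.card ↥(centralizer ({s} : Set L)) := by
  obtain ⟨e⟩ := h
  let φ : L ≃* G := e.trans BM.KHAll.iso
  have hfin : Finite L := Nat.finite_of_card_ne_zero (by rw [NotCT.Orders.b ⟨e⟩]; norm_num)
  have hp : Fact (Nat.Prime 7) := ⟨by norm_num⟩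
  obtain ⟨v, hv⟩ := exists_prime_orderOf_dvd_card' 7 h7
  have hvs : (v : L) * s = s * v := mem_centralizer_singleton_iff.1 v.2
  have h1 : IsConj (φ s) (g wf) :=
    Cfsg.Agent.H979.U33.conj_f_of_seven (s := φ s) (v := φ (v : L)) (by rw [MulEquiv.orderOf_eq, hs])
      (by rw [MulEquiv.orderOf_eq, orderOf_coe, hv]) (by rw [← map_mul, ← map_mul, hvs])
  obtain ⟨c, hc⟩ := isConj_iff.1 h1
  let ψ : L ≃* G := φ.trans (MulAut.conj c)
  have hψ : ψ s = g wf := hc
  have h2 : Nat.card ↥(centralizer ({g wf} : Set G)) ≤ Nat.card ↥(centralizer ({s} : Set L)) := by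
    refine Nat.card_le_card_of_injective (fun x => (⟨ψ.symm x, ?_⟩ : ↥(centralizer ({s} : Set L)))) ?_
    · rw [mem_centralizer_singleton_iff]
      apply ψ.injective
      rw [map_mul, map_mul, ψ.apply_symm_apply, hψ]
      exact mem_centralizer_singleton_iff.1 x.2
    · intro x y hxy
      exact Subtype.ext (ψ.symm.injective (congrArg Subtype.val hxy))
  exact card_f_ge.trans h2

/-- **`7 ∣ |C(s)|` : class 3A** -/
theorem frame_of_seven {L : Type} [Group L] (h : Spor.IsoB L) {s : L} (hs : orderOf s = 3)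
    (h7 : 7 ∣ Nat.card ↥(centralizer ({s} : Set L))) : Nonempty (FiFrame s) := by
  have hfin : Finite L := Nat.finite_of_card_ne_zero (by rw [NotCT.Orders.b h]; norm_num)
  rcases Cfsg.Agent.H844.Ore.BThree.three_le h hs with h1 | h1
  · have h2 := card_ge_of_seven h hs h7
    omega
  · exact frame_of_fiB h1

/-- **No member of order three.** -/
theorem not_three {L : Type} [Group L] [Finite L] (h : Spor.IsoB L) (hIH : IHx (Nat.card L)) {Ω : Type} [Nonempty Ω]
    [MulAction L Ω] {N : Subgroup L} (hE : Env L Ω N) {ι : Type} [Finite ι] {x : ι → L} {r : ι → ℕ} (hx : PF x r)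
    (hc : Cov Ω x) (hm : CovMin Ω x)
    (hbase : ∀ a b : L, (∀ ω : Ω, a • ω = ω ∨ b • ω = ω) → a ≠ 1 → (orderOf b).Prime → 11 ≤ orderOf b → False)
    {i : ι} (hi : r i = 3) : False := by
  by_cases h7 : 7 ∣ Nat.card ↥(centralizer ({x i} : Set L))
  · have ho : orderOf (x i) = 3 := by
      have h3 : Fact (Nat.Prime 3) := ⟨Nat.prime_three⟩
      exact orderOf_eq_prime (by rw [← hi]; exact hx.pow i) (hx.ne i)
    obtain ⟨D⟩ := frame_of_seven h ho h7
    exact ThreeA.not_threeA hIH hx hc hbase hi D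
  · exact ThreeB.not_threeB h hE hx hc hm hi h7

end Cfsg.Agent.H604.RB.Three
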